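import Mathlib

/-!
# Étale charts at a point with finite residue field
-/

set_option autoImplicit false
universe u

open TensorProduct KaehlerDifferential IsLocalRing

namespace Chart24

variable {k : Type u} [CommRing k] {R : Type u} [CommRing R] [Algebra k R]

/-- A maximal ideal lying over a maximal ideal with finite residue field has finite residue
field, for a finite type algebra over a local ring. -/
lemma finite_quotient [IsLocalRing k] [Finite (IsLocalRing.ResidueField k)]
    [Algebra.FiniteType k R] (m : Ideal R) [m.IsMaximal]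
    (hm : m.comap (algebraMap k R) = IsLocalRing.maximalIdeal k) : Finite (R ⧸ m) := by
  let _ := Ideal.Quotient.field m
  let f : ResidueField k →+* R ⧸ m :=
    Ideal.Quotient.lift _ (algebraMap k (R ⧸ m)) fun x hx => by
      rw [IsScalarTower.algebraMap_apply k R (R ⧸ m), Ideal.Quotient.algebraMap_eq,
        Ideal.Quotient.eq_zero_iff_mem, ← Ideal.mem_comap, hm]
      exact hx
  let _ : Algebra (ResidueField k) (R ⧸ m) := f.toAlgebra
  have : IsScalarTower k (ResidueField k) (R ⧸ m) := .of_algebraMap_eq fun _ => rfl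
  have : Algebra.FiniteType (ResidueField k) (R ⧸ m) :=
    .of_restrictScalars_finiteType k (ResidueField k) (R ⧸ m)
  have : Module.Finite (ResidueField k) (R ⧸ m) := finite_of_finite_type_of_isJacobsonRing _ _
  exact Module.finite_of_finite (ResidueField k)

/-- If the residue field at `m` is finite, every differential at `m` is the differential of an
element of `m`. -/
lemma exists_mem_tmul_D_eq (m : Ideal R) [m.IsMaximal] [Finite (R ⧸ m)]
    (v : m.ResidueField ⊗[Localization.AtPrime m] Ω[Localization.AtPrime m⁄k]) :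
    ∃ z ∈ m, (1 : m.ResidueField) ⊗ₜ D k (Localization.AtPrime m) (algebraMap R _ z) = v := by
  let S := Localization.AtPrime m
  let κ := m.ResidueField
  let d : R → κ ⊗[S] Ω[S⁄k] := fun r => 1 ⊗ₜ D k S (algebraMap R S r)
  have dadd : ∀ a b, d (a + b) = d a + d b := fun a b => by simp [d, tmul_add]
  have dsmul : ∀ r z, z ∈ m → d (r * z) = algebraMap R κ r • d z := by
    intro r z hz
    have h0 : algebraMap R S z • (1 : κ) = 0 := by
      rw [Algebra.smul_def, mul_one, ← IsScalarTower.algebraMap_apply]
      exact Ideal.algebraMap_residueField_eq_zero.mpr hz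
    have h1 : algebraMap R κ r = algebraMap R S r • (1 : κ) := by
      rw [Algebra.smul_def, mul_one, ← IsScalarTower.algebraMap_apply]
    simp only [d, map_mul, Derivation.leibniz, tmul_add, tmul_smul, smul_tmul', h0, zero_tmul,
      add_zero, h1]
    simp
  have surj : Function.Surjective (algebraMap R κ) := Ideal.algebraMap_residueField_surjective m
  let W : Submodule κ (κ ⊗[S] Ω[S⁄k]) :=
    { carrier := d '' m
      add_mem' := by
        rintro _ _ ⟨a, ha, rfl⟩ ⟨b, hb, rfl⟩
        exact ⟨a + b, m.add_mem ha hb, dadd a b⟩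
      zero_mem' := ⟨0, m.zero_mem, by simp [d]⟩
      smul_mem' := by
        rintro c _ ⟨a, ha, rfl⟩
        obtain ⟨r, rfl⟩ := surj c
        exact ⟨r * a, m.mul_mem_left r ha, dsmul r a ha⟩ }
  suffices h : W = ⊤ by
    have hv : v ∈ W := h ▸ Submodule.mem_top
    exact hv
  have : Finite κ := inferInstance
  let _ := Fintype.ofFinite κ
  have key : ∀ a : R, d a ∈ W := by
    intro a
    have hmem : a ^ Fintype.card κ - a ∈ m := by
      rw [← Ideal.algebraMap_residueField_eq_zero, map_sub, map_pow, FiniteField.pow_card,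
        sub_self]
    have : d (a ^ Fintype.card κ - a) = - d a := by
      have hq : (Fintype.card κ : κ) = 0 := Nat.cast_card_eq_zero κ
      have hz : ((Fintype.card κ : ℕ) : S) • (1 : κ) = 0 := by
        rw [Algebra.smul_def, mul_one, map_natCast, hq]
      simp only [d, map_sub, map_pow, Derivation.leibniz_pow, tmul_sub]
      rw [← Nat.cast_smul_eq_nsmul S, tmul_smul, smul_tmul', hz, zero_tmul, zero_sub]
    have h2 : d (a ^ Fintype.card κ - a) ∈ W := ⟨_, hmem, rfl⟩
    rw [this] at h2
    exact neg_mem_iff.mp h2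
  rw [eq_top_iff]
  rintro x -
  induction x with
  | zero => exact W.zero_mem
  | add x y hx hy => exact W.add_mem hx hy
  | tmul c w =>
    have hw : w ∈ Submodule.span S (Set.range (map k k R S ∘ D k R)) := by
      rw [span_range_map_derivation_of_isLocalization k R S m.primeCompl]; trivial
    suffices (1 : κ) ⊗ₜ[S] w ∈ W by
      simpa [smul_tmul'] using W.smul_mem c this
    induction hw using Submodule.span_induction with
    | mem y hy =>
      obtain ⟨r, rfl⟩ := hy
      simpa [d] using key r
    | zero => simp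
    | add y z _ _ hy hz => rw [tmul_add]; exact W.add_mem hy hz
    | smul s y _ hy =>
      have : (1 : κ) ⊗ₜ[S] (s • y) = algebraMap S κ s • ((1 : κ) ⊗ₜ[S] y) := by
        rw [algebraMap_smul, tmul_smul]
      rw [this]; exact W.smul_mem _ hy

/-- The dimension of the fibre of differentials, computed after localization. -/
lemma finrank_residue_eq (m : Ideal R) [m.IsMaximal] :
    Module.finrank m.ResidueField
      (m.ResidueField ⊗[Localization.AtPrime m] Ω[Localization.AtPrime m⁄k]) =
    Module.finrank (R ⧸ m) ((R ⧸ m) ⊗[R] Ω[R⁄k]) := by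
  let S := Localization.AtPrime m
  let κ := m.ResidueField
  let _ := Ideal.Quotient.field m
  have : Algebra.FormallyEtale R S := Algebra.FormallyEtale.of_isLocalization m.primeCompl
  let e₁ : κ ⊗[S] Ω[S⁄k] ≃ₗ[κ] κ ⊗[S] (S ⊗[R] Ω[R⁄k]) :=
    AlgebraTensorModule.congr (LinearEquiv.refl κ κ)
      (tensorKaehlerEquivOfFormallyEtale k R S).symm
  let e₂ : κ ⊗[S] (S ⊗[R] Ω[R⁄k]) ≃ₗ[κ] κ ⊗[R] Ω[R⁄k] :=
    AlgebraTensorModule.cancelBaseChange R S κ κ _
  let e₃ : κ ⊗[R] Ω[R⁄k] ≃ₗ[κ] κ ⊗[R ⧸ m] ((R ⧸ m) ⊗[R] Ω[R⁄k]) :=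
    (AlgebraTensorModule.cancelBaseChange R (R ⧸ m) κ κ _).symm
  rw [(e₁.trans (e₂.trans e₃)).finrank_eq, Module.finrank_baseChange]

theorem exists_etale_chart [IsLocalRing k] [Finite (IsLocalRing.ResidueField k)]
    [Algebra.FinitePresentation k R]
    (m : Ideal R) [m.IsMaximal] (hm : m.comap (algebraMap k R) = IsLocalRing.maximalIdeal k)
    [Algebra.IsSmoothAt k m] (d : ℕ) (hd : 0 < d)
    (hdim : Module.finrank (R ⧸ m) ((R ⧸ m) ⊗[R] Ω[R⁄k]) = d) :
    ∃ g : R, g ∉ m ∧ ∃ φ : MvPolynomial (Fin d) k →ₐ[k] Localization.Away g,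
      φ.toRingHom.Etale ∧
      Function.Surjective
        ((Ideal.Quotient.mk (m.map (algebraMap R (Localization.Away g)))).comp φ.toRingHom) := by
  classical
  have := finite_quotient m hm
  let _ := Ideal.Quotient.field m
  let S := Localization.AtPrime m
  let κ := m.ResidueField
  obtain ⟨α, hα⟩ := IsCyclic.exists_generator (α := (R ⧸ m)ˣ)
  obtain ⟨a₀, ha₀⟩ := Ideal.Quotient.mk_surjective (α : R ⧸ m)
  have : Algebra.EssFiniteType k S := Algebra.EssFiniteType.comp k R S
  have hfin : Module.finrank κ (κ ⊗[S] Ω[S⁄k]) = d := (finrank_residue_eq m).trans hdim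
  let v := Module.finBasisOfFinrankEq κ (κ ⊗[S] Ω[S⁄k]) hfin
  let i₀ : Fin d := ⟨0, hd⟩
  choose z hz hzv using fun i => exists_mem_tmul_D_eq (k := k) m
    (v i - if i = i₀ then (1 : κ) ⊗ₜ D k S (algebraMap R S a₀) else 0)
  let a : Fin d → R := fun i => (if i = i₀ then a₀ else 0) + z i
  have hav : ∀ i, (1 : κ) ⊗ₜ D k S (algebraMap R S (a i)) = v i := by
    intro i
    have := hzv i
    by_cases h : i = i₀
    · simp only [a, h, if_true, map_add, tmul_add] at *
      rw [this]; abel
    · simp only [a, h, if_false, zero_add, sub_zero] at *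
      exact this
  let P := MvPolynomial (Fin d) k
  let ψ : P →ₐ[k] R := MvPolynomial.aeval a
  let _ : Algebra P R := ψ.toRingHom.toAlgebra
  have : IsScalarTower k P R := .of_algebraMap_eq fun x => (ψ.commutes x).symm
  have : IsScalarTower k P S := .to₁₂₄ k P R S
  obtain ⟨b, hb⟩ := Module.exists_basis_of_basis_baseChange (R := S)
    (fun i => D k S (algebraMap R S (a i)))
    (by
      have : (TensorProduct.mk S κ Ω[S⁄k] 1 ∘ fun i => D k S (algebraMap R S (a i))) = v :=
        funext hav
      exact this ▸ v.linearIndependent)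
    (by
      have : (TensorProduct.mk S κ Ω[S⁄k] 1 ∘ fun i => D k S (algebraMap R S (a i))) = v :=
        funext hav
      exact this ▸ v.span_eq)
    (Module.Flat.rTensor_preserves_injective_linearMap _ (Submodule.injective_subtype _))
  have hbij : Function.Bijective (mapBaseChange k P S) := by
    let B := (mvPolynomialBasis k (Fin d)).baseChange S
    have heq : (B.equiv b (Equiv.refl _)).toLinearMap = mapBaseChange k P S := by
      apply B.ext
      intro i
      have hX : algebraMap P S (MvPolynomial.X i) = algebraMap R S (a i) := by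
        rw [IsScalarTower.algebraMap_apply P R S]
        congr 1
        exact MvPolynomial.aeval_X a i
      rw [LinearEquiv.coe_coe, Module.Basis.equiv_apply, Equiv.refl_apply, hb,
        Module.Basis.baseChange_apply, mvPolynomialBasis_apply, mapBaseChange_tmul, one_smul,
        map_D, hX]
    rw [← heq]; exact (B.equiv b (Equiv.refl _)).bijective
  have : Algebra.IsEtaleAt P m := by
    constructor
    · refine ⟨fun x y => ?_⟩
      suffices ∀ w : Ω[S⁄P], w = 0 by rw [this x, this y]
      intro w
      obtain ⟨w, rfl⟩ := map_surjective k P S w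
      exact ((exact_mapBaseChange_map k P S) w).mpr (hbij.2 w)
    · refine ⟨fun x y => ?_⟩
      suffices ∀ w : Algebra.H1Cotangent P S, w = 0 by rw [this x, this y]
      intro w
      have hδ : Algebra.H1Cotangent.δ k P S w = 0 := by
        refine hbij.1 ?_
        rw [(Algebra.H1Cotangent.exact_δ_mapBaseChange k P S).apply_apply_eq_zero, map_zero]
      obtain ⟨u, rfl⟩ := ((Algebra.H1Cotangent.exact_map_δ k P S) w).mp hδ
      rw [Subsingleton.elim u 0, map_zero]
  have : Algebra.FinitePresentation P R := .of_restrict_scalars_finitePresentation k P R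
  obtain ⟨g, hg, het⟩ := Algebra.exists_etale_of_isEtaleAt (R := P) m
  refine ⟨g, hg, (IsScalarTower.toAlgHom k R (Localization.Away g)).comp ψ, ?_, ?_⟩
  · have := RingHom.etale_algebraMap.mpr het
    exact this
  intro y
  obtain ⟨y, rfl⟩ := Ideal.Quotient.mk_surjective y
  obtain ⟨n, r, hr⟩ := IsLocalization.Away.surj g y
  let q := Ideal.Quotient.mk (m.map (algebraMap R (Localization.Away g)))
  let π : R ⧸ m →+* Localization.Away g ⧸ m.map (algebraMap R (Localization.Away g)) :=
    Ideal.quotientMap _ (algebraMap R (Localization.Away g)) Ideal.le_comap_map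
  have hπ : ∀ x, π (Ideal.Quotient.mk m x) = q (algebraMap R _ x) := fun x =>
    Ideal.quotientMap_mk
  -- `y` comes from `R ⧸ m`
  have hg0 : Ideal.Quotient.mk m g ≠ 0 := fun h => hg (Ideal.Quotient.eq_zero_iff_mem.mp h)
  let c : R ⧸ m := Ideal.Quotient.mk m r * ((Ideal.Quotient.mk m g) ^ n)⁻¹
  have hy : π c = q y := by
    have h1 : π c * π ((Ideal.Quotient.mk m g) ^ n) = q y * π ((Ideal.Quotient.mk m g) ^ n) := by
      rw [← map_mul, inv_mul_cancel_right₀ (pow_ne_zero _ hg0), hπ, map_pow, hπ, ← map_pow,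
        ← map_mul, hr]
    exact ((IsUnit.mk0 _ (pow_ne_zero n hg0)).map π).mul_right_cancel h1
  -- and `R ⧸ m` is covered by the polynomial ring
  have hcov : ∀ c : R ⧸ m, ∃ P₀ : P, Ideal.Quotient.mk m (ψ P₀) = c := by
    intro c
    by_cases hc : c = 0
    · exact ⟨0, by simp [hc]⟩
    obtain ⟨j, hj⟩ := (Submonoid.mem_powers_iff _ _).mp
      ((mem_powers_iff_mem_zpowers (y := Units.mk0 c hc)).mpr (hα _))
    refine ⟨MvPolynomial.X i₀ ^ j, ?_⟩
    have hai : Ideal.Quotient.mk m (a i₀) = (α : R ⧸ m) := by
      simp [a, ha₀, Ideal.Quotient.eq_zero_iff_mem.mpr (hz i₀)]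
    have := congrArg Units.val hj
    simp only [Units.val_pow_eq_pow_val, Units.val_mk0] at this
    rw [map_pow, map_pow, MvPolynomial.aeval_X, hai, this]
  obtain ⟨P₀, hP₀⟩ := hcov c
  refine ⟨P₀, ?_⟩
  change q (algebraMap R _ (ψ P₀)) = q y
  rw [← hπ, hP₀, hy]

end Chart24
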